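import Mathlib.RingTheory.Regular.RegularSequence

/-!
Powers of a regular sequence in a Noetherian local ring.
-/

open RingTheory.Sequence IsLocalRing

namespace Groth.Agent.RegPowH7

universe u

variable {R : Type u} [CommRing R] [IsLocalRing R] [IsNoetherianRing R]

/-- Raising one element of a regular sequence to a positive power. -/
theorem pow_one_entry {l l' : List R} {r : R} {e : ℕ} (he : 0 < e)
    (h : IsWeaklyRegular R (l ++ r :: l')) (hm : ∀ a ∈ l ++ r :: l', a ∈ maximalIdeal R) :
    IsWeaklyRegular R (l ++ r ^ e :: l') := by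
  have p1 : ∀ a : R, List.Perm (l ++ a :: l') ((l ++ l') ++ [a]) := fun a =>
    List.perm_middle.trans (List.perm_append_singleton a (l ++ l')).symm
  have h1 := IsLocalRing.isWeaklyRegular_of_perm_of_subset_maximalIdeal h (p1 r) hm
  rw [isWeaklyRegular_append_iff, isWeaklyRegular_singleton_iff] at h1
  have h2 : IsWeaklyRegular R ((l ++ l') ++ [r ^ e]) := by
    rw [isWeaklyRegular_append_iff, isWeaklyRegular_singleton_iff]
    exact ⟨h1.1, h1.2.pow e⟩
  refine IsLocalRing.isWeaklyRegular_of_perm_of_subset_maximalIdeal h2 (p1 _).symm fun a ha => ?_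
  rcases List.mem_append.1 ha with ha | ha
  · refine hm a ?_
    rcases List.mem_append.1 ha with ha | ha
    · exact List.mem_append_left _ ha
    · exact List.mem_append_right _ (List.mem_cons_of_mem _ ha)
  · rw [List.mem_singleton] at ha
    subst ha
    exact Ideal.pow_mem_of_mem _ (hm r (List.mem_append_right _ List.mem_cons_self)) e he

/-- Raising an initial segment of a regular sequence to a positive power. -/
theorem pow_initial {e : ℕ} (he : 0 < e) : ∀ (l l₀ l' : List R),
    IsWeaklyRegular R (l₀ ++ (l ++ l')) → (∀ a ∈ l₀ ++ (l ++ l'), a ∈ maximalIdeal R) →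
      IsWeaklyRegular R (l₀ ++ (l.map (· ^ e) ++ l'))
  | [], _, _, h, _ => h
  | r :: l, l₀, l', h, hm => by
    have h1 : IsWeaklyRegular R (l₀ ++ r ^ e :: (l ++ l')) :=
      pow_one_entry he h (by simpa using hm)
    have h2 := pow_initial he l (l₀ ++ [r ^ e]) l' (by simpa using h1) (fun a ha => by
      have ha : a ∈ l₀ ∨ a = r ^ e ∨ a ∈ l ∨ a ∈ l' := by simpa [or_assoc] using ha
      rcases ha with ha | rfl | ha | ha
      · exact hm a (by simp [ha])
      · exact Ideal.pow_mem_of_mem _ (hm r (by simp)) e he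
      · exact hm a (by simp [ha])
      · exact hm a (by simp [ha]))
    simpa using h2

/-- In a regular sequence, each entry is a non-zero-divisor modulo powers of the previous ones. -/
theorem mul_mem_imp {d : ℕ} {e : ℕ} (he : 0 < e) (x : Fin d → R)
    (h : IsWeaklyRegular R (List.ofFn x)) (hm : ∀ i, x i ∈ maximalIdeal R) (i : Fin d) (y : R)
    (hy : x i * y ∈ Ideal.span (Set.range fun j : {j : Fin d // (j : ℕ) < (i : ℕ)} => x j ^ e)) :
    y ∈ Ideal.span (Set.range fun j : {j : Fin d // (j : ℕ) < (i : ℕ)} => x j ^ e) := by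
  set pre := (List.ofFn x).take i.1 with hpre
  have hsplit : List.ofFn x = pre ++ x i :: (List.ofFn x).drop (i.1 + 1) := by
    conv_lhs => rw [← List.take_append_drop i.1 (List.ofFn x)]
    rw [List.drop_eq_getElem_cons (by simp), hpre]
    simp
  have hJ : Ideal.span (Set.range fun j : {j : Fin d // (j : ℕ) < (i : ℕ)} => x j ^ e) =
      Ideal.ofList (pre.map (· ^ e)) := by
    refine congrArg Ideal.span ?_
    ext a
    simp only [Set.mem_range, Set.mem_setOf_eq, List.mem_map, hpre]
    constructor
    · rintro ⟨⟨j, hj⟩, rfl⟩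
      exact ⟨x j, List.mem_take_iff_getElem.2 ⟨j.1, by simp [hj], by simp⟩, rfl⟩
    · rintro ⟨b, hb, rfl⟩
      obtain ⟨k, hk, rfl⟩ := List.mem_take_iff_getElem.1 hb
      have hk' : k < i.1 := by
        have := hk
        simp at this
        omega
      exact ⟨⟨⟨k, by omega⟩, hk'⟩, by simp⟩
  have hw := pow_initial he pre [] (x i :: (List.ofFn x).drop (i.1 + 1))
    (by simpa [← hsplit] using h) (fun a ha => by
      rw [List.nil_append, ← hsplit, List.mem_ofFn] at ha
      obtain ⟨k, rfl⟩ := ha
      exact hm k)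
  rw [List.nil_append, isWeaklyRegular_append_iff, isWeaklyRegular_cons_iff] at hw
  have hreg := hw.2.1
  rw [hJ] at hy ⊢
  have h0 : x i • (Submodule.Quotient.mk y :
      R ⧸ (Ideal.ofList (pre.map (· ^ e)) • ⊤ : Submodule R R)) = 0 := by
    rw [← Submodule.Quotient.mk_smul, Submodule.Quotient.mk_eq_zero, smul_eq_mul, smul_eq_mul, Ideal.mul_top]
    exact hy
  have h1 := hreg (show x i • (Submodule.Quotient.mk y :
      R ⧸ (Ideal.ofList (pre.map (· ^ e)) • ⊤ : Submodule R R)) = x i • 0 by rw [h0, smul_zero])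
  rw [Submodule.Quotient.mk_eq_zero, smul_eq_mul, Ideal.mul_top] at h1
  exact h1

end Groth.Agent.RegPowH7
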